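import Groth.Agent.GrpSchLib.GaPts
import Groth.Prelude.Def_CGrpSh2
import Groth.Prelude.Def_GmPts
import Mathlib.Algebra.Polynomial.Taylor
import Mathlib.AlgebraicGeometry.AffineScheme

/-!
# Homomorphisms from the additive to the multiplicative group over an affine base

Over `Spec R` they are the polynomials `f` whose coefficients satisfy
`a_n * a_m = C(n + m, n) * a_(n + m)` and `a_0 = 1`.
-/

set_option autoImplicit false
universe u

open CategoryTheory CategoryTheory.Limits MonoidalCategory CartesianMonoidalCategory MonObj AlgebraicGeometry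
open Opposite
open Groth.Agent.GrpSchLib

namespace Groth.Agent.DualGa

/-- A character polynomial. -/
structure IsChar {R : Type u} [CommRing R] (f : Polynomial R) : Prop where
  zero : f.coeff 0 = 1
  mul : ∀ n m, f.coeff n * f.coeff m = (((n + m).choose n : ℕ) : R) * f.coeff (n + m)

theorem IsChar.map {R S : Type u} [CommRing R] [CommRing S] {f : Polynomial R} (hf : IsChar f) (g : R →+* S) :
    IsChar (f.map g) where
  zero := by rw [Polynomial.coeff_map, hf.zero, map_one]
  mul n m := by
    rw [Polynomial.coeff_map, Polynomial.coeff_map, Polynomial.coeff_map, ← map_mul, hf.mul, map_mul,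
      map_natCast]

theorem IsChar.eval₂_add {R S : Type u} [CommRing R] [CommRing S] {f : Polynomial R} (hf : IsChar f)
    (g : R →+* S) (x y : S) : f.eval₂ g (x + y) = f.eval₂ g x * f.eval₂ g y := by
  set F := f.map g
  have hF := hf.map g
  have key : Polynomial.taylor y F = Polynomial.C (F.eval y) * F := by
    ext n
    rw [Polynomial.taylor_coeff, Polynomial.coeff_C_mul]
    have h : Polynomial.hasseDeriv n F = Polynomial.C (F.coeff n) * F := by
      ext m
      rw [Polynomial.hasseDeriv_coeff, Polynomial.coeff_C_mul, mul_comm (F.coeff n), hF.mul,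
        Nat.choose_symm_add]
    rw [h, Polynomial.eval_mul, Polynomial.eval_C, mul_comm]
  simp only [← Polynomial.eval_map]
  rw [← Polynomial.taylor_eval, key, Polynomial.eval_mul, Polynomial.eval_C, mul_comm]

theorem IsChar.eval₂_zero {R S : Type u} [CommRing R] [CommRing S] {f : Polynomial R} (hf : IsChar f)
    (g : R →+* S) : f.eval₂ g 0 = 1 := by
  rw [Polynomial.eval₂_at_zero, hf.zero, map_one]

/-- The value of a character polynomial is a unit. -/
def evalUnit {R S : Type u} [CommRing R] [CommRing S] {f : Polynomial R} (hf : IsChar f) (g : R →+* S) (y : S) :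
    Sˣ where
  val := f.eval₂ g y
  inv := f.eval₂ g (-y)
  val_inv := by rw [← hf.eval₂_add, add_neg_cancel, hf.eval₂_zero]
  inv_val := by rw [← hf.eval₂_add, neg_add_cancel, hf.eval₂_zero]

theorem isChar_of_taylor {R : Type u} [CommRing R] {f : Polynomial R} (h0 : f.coeff 0 = 1)
    (h : Polynomial.taylor (Polynomial.X : Polynomial R) (f.map Polynomial.C) =
      Polynomial.C f * f.map Polynomial.C) : IsChar f := by
  refine ⟨h0, fun n m => ?_⟩
  have h1 := congrArg (fun P => (P.coeff n).coeff m) h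
  have hd : Polynomial.hasseDeriv n (f.map Polynomial.C) = (Polynomial.hasseDeriv n f).map Polynomial.C := by
    ext i : 1
    simp [Polynomial.hasseDeriv_coeff]
  simp only [Polynomial.taylor_coeff, hd, Polynomial.eval_map, Polynomial.eval₂_C_X,
    Polynomial.hasseDeriv_coeff, Polynomial.coeff_C_mul, Polynomial.coeff_map,
    Polynomial.coeff_mul_C] at h1
  rw [add_comm n m, ← Nat.choose_symm_add] at *
  rw [mul_comm (f.coeff n)]
  refine h1.symm.trans ?_
  rw [Nat.choose_symm_add]

variable {X : Scheme.{u}}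

/-- The additive group on the big fppf site. -/
noncomputable abbrev GA (X : Scheme.{u}) : BigSite.Ab Scheme.fppfPrecoverage X :=
  CGrpSh2.Ga Scheme.fppfPrecoverage X

/-- The multiplicative group on the big fppf site. -/
noncomputable abbrev GM (X : Scheme.{u}) : BigSite.Ab Scheme.fppfPrecoverage X :=
  CGrpSh2.Gm Scheme.fppfPrecoverage X

/-- The topology. -/
noncomputable abbrev JX (X : Scheme.{u}) : GrothendieckTopology (Over X) :=
  QuotSh.J Scheme.fppfPrecoverage X

variable {T V W : Over X}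

/-- The function of a section of the additive group. -/
noncomputable def ga (x : (GA X).obj.obj (op T)) : Γ(T.left, ⊤) :=
  Red.gaFn (Additive.toMul (ULift.down x))

/-- The section of the additive group given by a function. -/
noncomputable def gaOf (v : Γ(T.left, ⊤)) : (GA X).obj.obj (op T) :=
  ULift.up (Additive.ofMul (GaPts.ptOfFn v : T ⟶ Red.Ga X))

theorem ga_gaOf (v : Γ(T.left, ⊤)) : ga (gaOf v) = v := GaPts.gaFn_ptOfFn v

theorem ga_injective : Function.Injective (ga : (GA X).obj.obj (op T) → _) := fun x y h =>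
  ULift.ext _ _ (congrArg Additive.ofMul (GaPts.gaFn_injective h))

theorem gaOf_ga (x : (GA X).obj.obj (op T)) : gaOf (ga x) = x := ga_injective (ga_gaOf _)

theorem ga_add (x y : (GA X).obj.obj (op T)) : ga (x + y) = ga x + ga y := GaPts.gaFn_mul _ _

theorem ga_zero : ga (0 : (GA X).obj.obj (op T)) = 0 := GaPts.gaFn_one

theorem ga_map (h : V ⟶ T) (x : (GA X).obj.obj (op T)) :
    ga ((GA X).obj.map h.op x) = h.left.appTop (ga x) := GaPts.gaFn_comp h _

theorem gaOf_add (v w : Γ(T.left, ⊤)) : (gaOf (v + w) : (GA X).obj.obj (op T)) = gaOf v + gaOf w :=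
  ga_injective (by rw [ga_add, ga_gaOf, ga_gaOf, ga_gaOf])

theorem gaOf_zero : (gaOf 0 : (GA X).obj.obj (op T)) = 0 := ga_injective (by rw [ga_gaOf, ga_zero])

theorem gaOf_map (h : V ⟶ T) (v : Γ(T.left, ⊤)) :
    (GA X).obj.map h.op (gaOf v) = gaOf (h.left.appTop v) :=
  ga_injective (by rw [ga_map, ga_gaOf, ga_gaOf])

/-- The function of a section of the multiplicative group. -/
noncomputable def gm (x : (GM X).obj.obj (op T)) : Γ(T.left, ⊤) :=
  Red.gmFn (Additive.toMul (ULift.down x))

theorem gm_injective : Function.Injective (gm : (GM X).obj.obj (op T) → _) := fun x y h =>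
  ULift.ext _ _ (congrArg Additive.ofMul (GmPts.gmFn_injective h))

theorem gm_add (x y : (GM X).obj.obj (op T)) : gm (x + y) = gm x * gm y := GmPts.gmFn_mul _ _

theorem gm_zero : gm (0 : (GM X).obj.obj (op T)) = 1 := GmPts.gmFn_one

theorem gm_map (h : V ⟶ T) (x : (GM X).obj.obj (op T)) :
    gm ((GM X).obj.map h.op x) = h.left.appTop (gm x) := GmPts.gmFn_comp h _

/-- The section of the multiplicative group given by a unit. -/
noncomputable def gmOf (v : (Γ(T.left, ⊤))ˣ) : (GM X).obj.obj (op T) :=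
  ULift.up (Additive.ofMul (GmPts.ptOfUnit v : T ⟶ Red.Gm X))

theorem gm_gmOf (v : (Γ(T.left, ⊤))ˣ) : gm (gmOf v) = v := GmPts.gmFn_ptOfUnit v

/-- The value of a homomorphism on a function. -/
noncomputable def act (ψ : (GA X).over T ⟶ (GM X).over T) (g : V ⟶ T) (r : Γ(V.left, ⊤)) : Γ(V.left, ⊤) :=
  gm (T := V) (ψ.hom.app (op (Over.mk g)) (gaOf (T := V) r))

theorem act_addArg (ψ : (GA X).over T ⟶ (GM X).over T) (g : V ⟶ T) (r r' : Γ(V.left, ⊤)) :
    act ψ g (r + r') = act ψ g r * act ψ g r' := by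
  refine (congrArg (fun z => gm (T := V) (ψ.hom.app (op (Over.mk g)) z))
    (gaOf_add (T := V) r r')).trans ?_
  exact (congrArg (gm (T := V)) (map_add (ψ.hom.app (op (Over.mk g))).hom _ _)).trans (gm_add (T := V) _ _)

theorem act_zeroArg (ψ : (GA X).over T ⟶ (GM X).over T) (g : V ⟶ T) :
    act ψ g (0 : Γ(V.left, ⊤)) = 1 := by
  refine (congrArg (fun z => gm (T := V) (ψ.hom.app (op (Over.mk g)) z)) (gaOf_zero (T := V))).trans ?_
  exact (congrArg (gm (T := V)) (map_zero (ψ.hom.app (op (Over.mk g))).hom)).trans (gm_zero (T := V))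

theorem act_comp (ψ : (GA X).over T ⟶ (GM X).over T) (h : W ⟶ V) (g : V ⟶ T) (r : Γ(V.left, ⊤)) :
    act ψ (h ≫ g) (h.left.appTop r) = h.left.appTop (act ψ g r) := by
  have hn := congr(($(ψ.hom.naturality (Over.homMk h : Over.mk (h ≫ g) ⟶ Over.mk g).op)) (gaOf r))
  refine (congrArg (gm (T := W)) (Eq.trans ?_ hn)).trans (gm_map h _)
  exact congrArg (ψ.hom.app (op (Over.mk (h ≫ g)))) (gaOf_map h r).symm

theorem act_add (ψ ψ' : (GA X).over T ⟶ (GM X).over T) (g : V ⟶ T) (r : Γ(V.left, ⊤)) :
    act (ψ + ψ') g r = act ψ g r * act ψ' g r := gm_add (T := V) _ _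

theorem act_zero (g : V ⟶ T) (r : Γ(V.left, ⊤)) :
    act (0 : (GA X).over T ⟶ (GM X).over T) g r = 1 := gm_zero (T := V)

theorem hom_ext_act {ψ ψ' : (GA X).over T ⟶ (GM X).over T}
    (h : ∀ (V : Over X) (g : V ⟶ T) (r : Γ(V.left, ⊤)), act ψ g r = act ψ' g r) : ψ = ψ' := by
  refine Sheaf.hom_ext (NatTrans.ext (funext fun U => AddCommGrpCat.ext fun x => ?_))
  refine gm_injective (T := U.unop.left) ?_
  refine Eq.trans ?_ ((h U.unop.left U.unop.hom (ga (T := U.unop.left) x)).trans ?_)
  · exact congrArg (fun z => gm (T := U.unop.left) (ψ.hom.app U z)) (gaOf_ga (T := U.unop.left) x).symm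
  · exact congrArg (fun z => gm (T := U.unop.left) (ψ'.hom.app U z)) (gaOf_ga (T := U.unop.left) x)

/-- Functions are determined by their pullbacks to affine schemes. -/
theorem sep {Y : Scheme.{u}} {a b : Γ(Y, ⊤)}
    (h : ∀ (B : CommRingCat.{u}) (j : Spec B ⟶ Y), j.appTop a = j.appTop b) : a = b := by
  refine Y.sheaf.eq_of_locally_eq' (fun U : Y.affineOpens => U.1) ⊤ (fun U => homOfLE le_top)
    (fun y _ => ?_) a b fun U => ?_
  · obtain ⟨U, hU, hy, -⟩ := exists_isAffineOpen_mem_and_subset (x := y) (U := ⊤) trivial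
    exact TopologicalSpace.Opens.mem_iSup.2 ⟨⟨U, hU⟩, hy⟩
  · have h1 := h _ U.2.fromSpec
    rw [IsAffineOpen.fromSpec, Scheme.Hom.comp_appTop] at h1
    haveI : IsIso U.2.isoSpec.inv.appTop :=
      inferInstanceAs (IsIso (U.2.isoSpec.inv.app ⊤))
    have h2 := (ConcreteCategory.bijective_of_isIso U.2.isoSpec.inv.appTop).1 h1
    rw [Scheme.Opens.ι_appTop] at h2
    have e : (U.1.ι ''ᵁ (⊤ : (U.1 : Scheme.{u}).Opens)) = U.1 := Scheme.Opens.ι_image_top _
    have key : ∀ z, Y.presheaf.map (homOfLE (le_top (a := U.1))).op z =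
        Y.presheaf.map (eqToHom e.symm).op
          (Y.presheaf.map (homOfLE (le_top (a := U.1.ι ''ᵁ (⊤ : (U.1 : Scheme.{u}).Opens)))).op z) := fun z => by
      rw [← ConcreteCategory.comp_apply, ← Functor.map_comp]
      rfl
    refine (key a).trans (Eq.trans ?_ (key b).symm)
    exact congrArg _ h2

section Affine

variable {R : CommRingCat.{u}} (φ : Spec R ⟶ X)

/-- The object of the big site given by an affine scheme. -/
noncomputable abbrev aff {R : CommRingCat.{u}} (φ : Spec R ⟶ X) : Over X := Over.mk φ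

/-- The change of base. -/
noncomputable abbrev affMap {B : CommRingCat.{u}} (g : R ⟶ B) : aff (Spec.map g ≫ φ) ⟶ aff φ :=
  Over.homMk (Spec.map g)

/-- Functions on the spectrum. -/
noncomputable abbrev eS (B : CommRingCat.{u}) : Γ(Spec B, ⊤) →+* B := (Scheme.ΓSpecIso B).hom.hom

/-- Functions on the spectrum, inverse. -/
noncomputable abbrev eI (B : CommRingCat.{u}) : B →+* Γ(Spec B, ⊤) := (Scheme.ΓSpecIso B).inv.hom

theorem eS_eI (B : CommRingCat.{u}) (b : B) : eS B (eI B b) = b :=
  congr(($((Scheme.ΓSpecIso B).inv_hom_id)).hom b)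

theorem eI_eS (B : CommRingCat.{u}) (b : Γ(Spec B, ⊤)) : eI B (eS B b) = b :=
  congr(($((Scheme.ΓSpecIso B).hom_inv_id)).hom b)

theorem appTop_eI {B : CommRingCat.{u}} (g : R ⟶ B) (r : R) :
    (Spec.map g).appTop (eI R r) = eI B (g r) :=
  congr(($(Scheme.ΓSpecIso_inv_naturality g)).hom r).symm

theorem eS_appTop {B : CommRingCat.{u}} (g : R ⟶ B) (r : Γ(Spec R, ⊤)) :
    eS B ((Spec.map g).appTop r) = g (eS R r) :=
  congr(($(Scheme.ΓSpecIso_naturality g)).hom r)

variable {φ}

/-- The polynomial of a homomorphism: its value at the coordinate. -/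
noncomputable def poly (ψ : (GA X).over (aff φ) ⟶ (GM X).over (aff φ)) : Polynomial R :=
  eS (CommRingCat.of (Polynomial R))
    (act ψ (affMap φ (CommRingCat.ofHom (Polynomial.C (R := R)))) (eI _ Polynomial.X))

theorem act_eq_eval (ψ : (GA X).over (aff φ) ⟶ (GM X).over (aff φ)) {B : CommRingCat.{u}} (g : R ⟶ B)
    (b : B) : eS B (act ψ (affMap φ g) (eI B b)) = (poly ψ).eval₂ g.hom b := by
  let k : CommRingCat.of (Polynomial R) ⟶ B := CommRingCat.ofHom (Polynomial.eval₂RingHom g.hom b)
  have hk : CommRingCat.ofHom (Polynomial.C (R := R)) ≫ k = g := by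
    ext r
    simp [k]
  let h : aff (Spec.map g ≫ φ) ⟶ aff (Spec.map (CommRingCat.ofHom (Polynomial.C (R := R))) ≫ φ) :=
    Over.homMk (Spec.map k) (by simp only [Over.mk_hom]; rw [← Spec.map_comp_assoc, hk])
  have hh : h ≫ affMap φ (CommRingCat.ofHom (Polynomial.C (R := R))) = affMap φ g := by
    ext1
    simp only [Over.comp_left, Over.homMk_left, h, ← Spec.map_comp, hk]
  have h1 := act_comp ψ h (affMap φ (CommRingCat.ofHom (Polynomial.C (R := R)))) (eI _ Polynomial.X)
  rw [hh] at h1
  have h2 : h.left.appTop (eI _ (Polynomial.X (R := R))) = eI B b := by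
    show (Spec.map k).appTop _ = _
    rw [appTop_eI]
    simp [k]
  rw [h2] at h1
  rw [h1]
  exact eS_appTop k _

theorem poly_ext {ψ ψ' : (GA X).over (aff φ) ⟶ (GM X).over (aff φ)} (h : poly ψ = poly ψ') : ψ = ψ' := by
  refine hom_ext_act fun V g r => sep fun B j => ?_
  obtain ⟨k, hk⟩ := Spec.map_surjective (j ≫ g.left)
  let p : aff (Spec.map k ≫ φ) ⟶ V := Over.homMk j (by
    simp only [Over.mk_hom]
    rw [hk, Category.assoc]
    exact congrArg (j ≫ ·) (Over.w g).symm)
  have hp : p ≫ g = affMap φ k := by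
    ext1
    simp [p, hk]
  have h1 : ∀ χ : (GA X).over (aff φ) ⟶ (GM X).over (aff φ),
      j.appTop (act χ g r) = eI B ((poly χ).eval₂ k.hom (eS B (j.appTop r))) := fun χ => by
    rw [← act_eq_eval, eI_eS, eI_eS, ← hp]
    exact (act_comp χ p g r).symm
  rw [h1, h1, h]

theorem isChar_poly (ψ : (GA X).over (aff φ) ⟶ (GM X).over (aff φ)) : IsChar (poly ψ) := by
  have hadd : ∀ {B : CommRingCat.{u}} (g : R ⟶ B) (x y : B),
      (poly ψ).eval₂ g.hom (x + y) = (poly ψ).eval₂ g.hom x * (poly ψ).eval₂ g.hom y := fun {B} g x y => by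
    rw [← act_eq_eval, ← act_eq_eval, ← act_eq_eval, ← map_mul]
    congr 1
    exact (congrArg (act ψ (affMap φ g)) (map_add (eI B) x y)).trans (act_addArg _ _ _ _)
  refine isChar_of_taylor ?_ ?_
  · rw [Polynomial.coeff_zero_eq_eval_zero, Polynomial.eval, ← CommRingCat.hom_id, ← act_eq_eval]
    rw [map_zero]
    exact (congrArg (eS R) (act_zeroArg ψ _)).trans (map_one _)
  · let g : R ⟶ CommRingCat.of (Polynomial (Polynomial R)) :=
      CommRingCat.ofHom (Polynomial.C.comp Polynomial.C)
    have h := hadd g Polynomial.X (Polynomial.C Polynomial.X)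
    rw [Polynomial.taylor_apply, Polynomial.comp, Polynomial.eval₂_map]
    refine h.trans ?_
    rw [mul_comm]
    congr 1
    · show Polynomial.eval₂ (Polynomial.C.comp Polynomial.C) (Polynomial.C Polynomial.X) _ = _
      rw [← Polynomial.hom_eval₂, Polynomial.eval₂_C_X]

theorem poly_add (ψ ψ' : (GA X).over (aff φ) ⟶ (GM X).over (aff φ)) :
    poly (ψ + ψ') = poly ψ * poly ψ' := by
  rw [poly, act_add, map_mul]
  rfl

theorem poly_zero : poly (0 : (GA X).over (aff φ) ⟶ (GM X).over (aff φ)) = 1 := by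
  rw [poly, act_zero, map_one]

/-- The structure map of functions over the affine base. -/
noncomputable def algT {V : Over X} (g : V ⟶ aff φ) : R →+* Γ(V.left, ⊤) :=
  g.left.appTop.hom.comp (eI R)

theorem algT_comp {V W : Over X} (h : W ⟶ V) (g : V ⟶ aff φ) :
    algT (h ≫ g) = h.left.appTop.hom.comp (algT g) := rfl

/-- The homomorphism given by a character polynomial. -/
noncomputable def charOf (f : Polynomial R) (hf : IsChar f) :
    (GA X).over (aff φ) ⟶ (GM X).over (aff φ) :=
  ⟨{ app := fun U => AddCommGrpCat.ofHom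
      { toFun := fun x => gmOf (T := U.unop.left)
          (evalUnit hf (algT (φ := φ) U.unop.hom) (ga (T := U.unop.left) x))
        map_zero' := gm_injective (T := U.unop.left) (by
          rw [gm_gmOf]
          show f.eval₂ _ (ga (0 : (GA X).obj.obj (op U.unop.left))) = _
          rw [ga_zero, hf.eval₂_zero]
          exact gm_zero.symm)
        map_add' := fun x y => gm_injective (T := U.unop.left) (by
          rw [gm_gmOf]
          show f.eval₂ _ (ga (T := U.unop.left) _) = _
          refine (congrArg (Polynomial.eval₂ _ · f) (ga_add (T := U.unop.left) x y)).trans ?_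
          refine (hf.eval₂_add _ _ _).trans ?_
          refine Eq.trans ?_ (gm_add (T := U.unop.left) _ _).symm
          refine congrArg₂ (· * ·) ?_ ?_ <;>
            exact (gm_gmOf (T := U.unop.left) (evalUnit hf (algT (φ := φ) U.unop.hom) _)).symm) }
     naturality := fun U U' h => by
       refine AddCommGrpCat.ext fun x => gm_injective (T := U'.unop.left) ?_
       refine Eq.trans ?_ (gm_map h.unop.left _).symm
       refine (gm_gmOf _).trans (Eq.trans ?_ (congrArg _ (gm_gmOf _)).symm)
       show f.eval₂ _ (ga ((GA X).obj.map h.unop.left.op x)) = h.unop.left.left.appTop.hom (f.eval₂ _ _)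
       rw [ga_map, Polynomial.hom_eval₂, ← algT_comp]
       congr 2
       exact (Over.w h.unop).symm }⟩

theorem poly_charOf (f : Polynomial R) (hf : IsChar f) : poly (charOf (φ := φ) f hf) = f := by
  rw [poly, act]
  refine (congrArg (eS _) ((gm_gmOf _).trans (congrArg (Polynomial.eval₂ _ · f) (ga_gaOf _)))).trans ?_
  rw [Polynomial.hom_eval₂]
  refine Eq.trans ?_ (Polynomial.eval₂_C_X (p := f))
  congr 1
  · refine RingHom.ext fun r => ?_
    refine (eS_appTop (B := CommRingCat.of (Polynomial R)) (CommRingCat.ofHom (Polynomial.C (R := R))) _).trans ?_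
    exact congrArg (Polynomial.C (R := R)) (eS_eI R r)
  · exact eS_eI _ _

end Affine

/-- Restriction of a homomorphism along a morphism. -/
noncomputable def pull (h : V ⟶ T) (ψ : (GA X).over T ⟶ (GM X).over T) : (GA X).over V ⟶ (GM X).over V :=
  ((JX X).overMapPullback AddCommGrpCat.{u + 1} h).map ψ

theorem act_pull (h : V ⟶ T) (ψ : (GA X).over T ⟶ (GM X).over T) (q : W ⟶ V) (r : Γ(W.left, ⊤)) :
    act (pull h ψ) q r = act ψ (q ≫ h) r := rfl

theorem poly_pull {R B : CommRingCat.{u}} {φ : Spec R ⟶ X} {φ' : Spec B ⟶ X} (k : R ⟶ B)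
    (h : aff φ' ⟶ aff φ) (hh : h.left = Spec.map k) (ψ : (GA X).over (aff φ) ⟶ (GM X).over (aff φ)) :
    poly (pull h ψ) = (poly ψ).map k.hom := by
  obtain rfl : φ' = Spec.map k ≫ φ := by rw [← hh]; exact (Over.w h).symm
  obtain rfl : h = affMap φ k := Over.OverMorphism.ext hh
  let kC : R ⟶ CommRingCat.of (Polynomial B) := k ≫ CommRingCat.ofHom (Polynomial.C (R := B))
  let i : aff (Spec.map (CommRingCat.ofHom (Polynomial.C (R := B))) ≫ Spec.map k ≫ φ) ⟶
      aff (Spec.map kC ≫ φ) :=
    Over.homMk (𝟙 _) (by simp [kC])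
  have hi : i ≫ affMap φ kC =
      affMap (Spec.map k ≫ φ) (CommRingCat.ofHom (Polynomial.C (R := B))) ≫ affMap φ k := by
    ext1
    simp [i, kC]
  have h2 : ∀ s : Γ(Spec (CommRingCat.of (Polynomial B)), ⊤), i.left.appTop s = s := fun s => by
    simp [i]
  rw [poly, act_pull, ← hi, ← h2 (eI _ Polynomial.X), act_comp, h2]
  exact (act_eq_eval ψ kC Polynomial.X).trans rfl

end Groth.Agent.DualGa
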