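import Mathlib.RingTheory.Ideal.Quotient.Defs
import Mathlib.Data.Nat.Choose.Sum
import Mathlib.Algebra.BigOperators.NatAntidiagonal
import Mathlib.Algebra.Module.Pi
import Mathlib.Tactic.Ring

/-!
# Truncated divided power algebras in one variable

The ring of sequences with the binomial convolution product, and its truncations: the universal rings
for characters of the additive group of bounded degree.
-/

set_option autoImplicit false
universe u v

open Finset

namespace Groth.Agent.DualGa

/-- Sequences with the binomial convolution product. -/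
@[ext]
structure Hur (R : Type u) : Type u where
  /-- The coefficients. -/
  c : ℕ → R

variable {R : Type u} [CommRing R]

namespace Hur

instance : Zero (Hur R) := ⟨⟨0⟩⟩
instance : Add (Hur R) := ⟨fun a b => ⟨a.c + b.c⟩⟩
instance : Neg (Hur R) := ⟨fun a => ⟨-a.c⟩⟩
instance : One (Hur R) := ⟨⟨fun n => if n = 0 then 1 else 0⟩⟩
instance : Mul (Hur R) :=
  ⟨fun a b => ⟨fun n => ∑ p ∈ antidiagonal n, (n.choose p.1 : R) * (a.c p.1 * b.c p.2)⟩⟩

@[simp] theorem zero_c (n : ℕ) : (0 : Hur R).c n = 0 := rfl
@[simp] theorem add_c (a b : Hur R) (n : ℕ) : (a + b).c n = a.c n + b.c n := rfl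
@[simp] theorem neg_c (a : Hur R) (n : ℕ) : (-a).c n = -a.c n := rfl
theorem one_c (n : ℕ) : (1 : Hur R).c n = if n = 0 then 1 else 0 := rfl
theorem mul_c (a b : Hur R) (n : ℕ) :
    (a * b).c n = ∑ p ∈ antidiagonal n, (n.choose p.1 : R) * (a.c p.1 * b.c p.2) := rfl

theorem mul_comm' (a b : Hur R) : a * b = b * a := by
  ext n
  rw [mul_c, mul_c, ← Finset.sum_equiv (Equiv.prodComm ℕ ℕ) (s := antidiagonal n) (t := antidiagonal n)
    (fun p => by simp [add_comm]) (fun _ _ => rfl)]
  refine Finset.sum_congr rfl fun p hp => ?_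
  simp only [Equiv.prodComm_apply, Prod.fst_swap, Prod.snd_swap]
  rw [Nat.choose_symm_of_eq_add (mem_antidiagonal.1 hp).symm, mul_comm (a.c _)]

theorem mul_assoc' (a b c : Hur R) : a * b * c = a * (b * c) := by
  ext n
  simp only [mul_c, Finset.sum_mul, Finset.mul_sum, Finset.sum_sigma']
  refine Finset.sum_nbij' (fun q => ⟨(q.2.1, q.2.2 + q.1.2), (q.2.2, q.1.2)⟩)
    (fun q => ⟨(q.1.1 + q.2.1, q.2.2), (q.1.1, q.2.1)⟩) ?_ ?_ ?_ ?_ ?_
  · rintro ⟨⟨p, l⟩, i, j⟩ h
    simp [add_assoc] at h ⊢
    omega
  · rintro ⟨⟨i, m⟩, j, l⟩ h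
    simp at h ⊢
    omega
  · rintro ⟨⟨p, l⟩, i, j⟩ h
    simp at h
    simp [h.2]
  · rintro ⟨⟨i, m⟩, j, l⟩ h
    simp at h
    simp [h.2]
  · rintro ⟨⟨p, l⟩, i, j⟩ h
    simp at h
    obtain ⟨h1, rfl⟩ := h
    subst h1
    have e : ((i + j + l).choose (i + j) * (i + j).choose i : ℕ) =
        (i + j + l).choose i * (j + l).choose j := by
      rw [Nat.choose_mul (by omega)]
      congr 2 <;> omega
    calc ((i + j + l).choose (i + j) : R) * (((i + j).choose i : R) * (a.c i * b.c j) * c.c l)
        = (((i + j + l).choose (i + j) * (i + j).choose i : ℕ) : R) * (a.c i * b.c j * c.c l) := by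
          push_cast; ring
      _ = (((i + j + l).choose i * (j + l).choose j : ℕ) : R) * (a.c i * b.c j * c.c l) := by rw [e]
      _ = _ := by push_cast; ring

theorem one_mul' (a : Hur R) : 1 * a = a := by
  ext n
  rw [mul_c, Finset.sum_eq_single ((0, n) : ℕ × ℕ)]
  · simp [one_c]
  · intro p hp hne
    have h0 : p.1 ≠ 0 := fun e => hne (Prod.ext e (by simpa [e] using mem_antidiagonal.1 hp))
    simp [one_c, h0]
  · simp

theorem left_distrib' (a b c : Hur R) : a * (b + c) = a * b + a * c := by
  ext n
  simp only [mul_c, add_c, ← Finset.sum_add_distrib, mul_add]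

theorem zero_mul' (a : Hur R) : 0 * a = 0 := by ext n; simp [mul_c]

instance : CommRing (Hur R) where
  nsmul := nsmulRec
  zsmul := zsmulRec
  add_assoc a b c := by ext n; simp [add_assoc]
  zero_add a := by ext n; simp
  add_zero a := by ext n; simp
  add_comm a b := by ext n; simp [add_comm]
  neg_add_cancel a := by ext n; simp
  left_distrib := left_distrib'
  right_distrib a b c := by rw [mul_comm', left_distrib', mul_comm' c a, mul_comm' c b]
  zero_mul := zero_mul'
  mul_zero a := by rw [mul_comm', zero_mul']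
  mul_assoc := mul_assoc'
  one_mul := one_mul'
  mul_one a := by rw [mul_comm', one_mul']
  mul_comm := mul_comm'

/-- A single coefficient. -/
def single (i : ℕ) (r : R) : Hur R := ⟨fun n => if n = i then r else 0⟩

theorem single_mul_c (r : R) (a : Hur R) (n : ℕ) : (single 0 r * a).c n = r * a.c n := by
  rw [mul_c, Finset.sum_eq_single ((0, n) : ℕ × ℕ)]
  · simp [single]
  · intro p hp hne
    have h0 : p.1 ≠ 0 := fun e => hne (Prod.ext e (by simpa [e] using mem_antidiagonal.1 hp))
    simp [single, h0]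
  · simp

theorem single_mul_single (i j : ℕ) (r s : R) :
    single i r * single j s = single (i + j) (((i + j).choose i : R) * (r * s)) := by
  ext n
  rw [mul_c]
  by_cases hn : n = i + j
  · subst hn
    rw [Finset.sum_eq_single ((i, j) : ℕ × ℕ)]
    · simp [single]
    · intro p hp hne
      by_cases h1 : p.1 = i
      · have h2 : p.2 ≠ j := fun e => hne (Prod.ext h1 e)
        simp [single, h2]
      · simp [single, h1]
    · simp
  · rw [Finset.sum_eq_zero]
    · simp [single, hn]
    · intro p hp
      by_cases h1 : p.1 = i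
      · have h2 : p.2 ≠ j := fun e => hn (by rw [← mem_antidiagonal.1 hp, h1, e])
        simp [single, h2]
      · simp [single, h1]

end Hur

variable (R)

/-- The ideal of sequences vanishing in degrees at most `N`. -/
def tailIdeal (N : ℕ) : Ideal (Hur R) where
  carrier := {a | ∀ n ≤ N, a.c n = 0}
  add_mem' {a b} ha hb n hn := by simp [ha n hn, hb n hn]
  zero_mem' n _ := rfl
  smul_mem' a b hb n hn := by
    rw [smul_eq_mul, Hur.mul_c, Finset.sum_eq_zero]
    intro p hp
    rw [hb p.2 ((Nat.le_add_left _ _).trans ((mem_antidiagonal.1 hp).le.trans hn)), mul_zero, mul_zero]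

/-- The truncated divided power algebra. -/
abbrev Trunc (N : ℕ) : Type u := Hur R ⧸ tailIdeal R N

variable {R}

/-- The inclusion of constants. -/
def trConst (N : ℕ) : R →+* Trunc R N where
  toFun r := Ideal.Quotient.mk _ (Hur.single 0 r)
  map_one' := by
    rw [← map_one (Ideal.Quotient.mk (tailIdeal R N))]
    rfl
  map_mul' r s := by
    rw [← map_mul]
    congr 1
    rw [Hur.single_mul_single]
    simp
  map_zero' := by
    rw [← map_zero (Ideal.Quotient.mk (tailIdeal R N))]
    congr 1
    ext n; simp [Hur.single]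
  map_add' r s := by
    rw [← map_add]
    congr 1
    ext n
    by_cases h : n = 0 <;> simp [Hur.single, h]

/-- The universal family. -/
def tGen (N n : ℕ) : Trunc R N := Ideal.Quotient.mk _ (Hur.single n 1)

theorem tGen_zero (N : ℕ) : (tGen N 0 : Trunc R N) = 1 := map_one (trConst N)

theorem tGen_eq_zero {N n : ℕ} (h : N < n) : (tGen N n : Trunc R N) = 0 :=
  Ideal.Quotient.eq_zero_iff_mem.2 fun m hm => by simp [Hur.single, (hm.trans_lt h).ne]

theorem tGen_mul (N i j : ℕ) :
    (tGen N i * tGen N j : Trunc R N) = (((i + j).choose i : ℕ) : Trunc R N) * tGen N (i + j) := by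
  rw [tGen, tGen, tGen, ← map_natCast (Ideal.Quotient.mk (tailIdeal R N)), ← map_mul, ← map_mul,
    Hur.single_mul_single]
  congr 1
  have h : ∀ k : ℕ, ((k : Hur R)) = Hur.single 0 (k : R) := by
    intro k
    induction k with
    | zero => ext n; simp [Hur.single]
    | succ k ih =>
      rw [Nat.cast_succ, ih]
      ext n
      by_cases hn : n = 0 <;> simp [Hur.single, Hur.one_c, hn]
  rw [h, Hur.single_mul_single]
  simp

/-- The coefficient of index `n`, for `n ≤ N`. -/
def coef {N : ℕ} (n : ℕ) (h : n ≤ N) (x : Trunc R N) : R :=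
  Quotient.liftOn' x (fun a => a.c n) fun a b hab => by
    have := (Submodule.quotientRel_def _).1 hab n h
    rwa [sub_eq_add_neg, Hur.add_c, Hur.neg_c, ← sub_eq_add_neg, sub_eq_zero] at this

theorem coef_mk {N : ℕ} (n : ℕ) (h : n ≤ N) (a : Hur R) :
    coef n h (Ideal.Quotient.mk _ a) = a.c n := rfl

theorem coef_sum {N : ℕ} (n : ℕ) (h : n ≤ N) {ι : Type} (s : Finset ι) (x : ι → Trunc R N) :
    coef n h (∑ i ∈ s, x i) = ∑ i ∈ s, coef n h (x i) := by
  let f : Trunc R N →+ R := AddMonoidHom.mk' (coef n h) fun a b => by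
    obtain ⟨a, rfl⟩ := Ideal.Quotient.mk_surjective a
    obtain ⟨b, rfl⟩ := Ideal.Quotient.mk_surjective b
    rfl
  exact map_sum f x s

theorem coef_const_mul {N : ℕ} (n : ℕ) (h : n ≤ N) (r : R) (x : Trunc R N) :
    coef n h (trConst N r * x) = r * coef n h x := by
  obtain ⟨a, rfl⟩ := Ideal.Quotient.mk_surjective x
  exact Hur.single_mul_c r a n

theorem coef_tGen {N : ℕ} (n : ℕ) (h : n ≤ N) (m : ℕ) :
    coef n h (tGen N m : Trunc R N) = if n = m then 1 else 0 := rfl

theorem coef_expand {N : ℕ} (n : ℕ) (h : n ≤ N) (r : ℕ → R) :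
    coef n h (∑ m ∈ range (N + 1), trConst N (r m) * tGen N m) = r n := by
  rw [coef_sum, Finset.sum_eq_single n]
  · rw [coef_const_mul, coef_tGen, if_pos rfl, mul_one]
  · intro m _ hm
    rw [coef_const_mul, coef_tGen, if_neg hm.symm, mul_zero]
  · intro hn
    exact absurd (Finset.mem_range.2 (Nat.lt_succ_of_le h)) hn

theorem eq_expand {N : ℕ} (x : Trunc R N) (r : ℕ → R) (hr : ∀ n (h : n ≤ N), coef n h x = r n) :
    x = ∑ m ∈ range (N + 1), trConst N (r m) * tGen N m := by
  obtain ⟨a, rfl⟩ := Ideal.Quotient.mk_surjective x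
  obtain ⟨b, hb⟩ := Ideal.Quotient.mk_surjective (∑ m ∈ range (N + 1), trConst N (r m) * tGen N m)
  rw [← hb, Ideal.Quotient.eq]
  intro n hn
  have := coef_expand n hn r
  rw [← hb, coef_mk] at this
  rw [sub_eq_add_neg, Hur.add_c, Hur.neg_c, this, ← hr n hn, coef_mk, add_neg_cancel]

/-- The map out of the truncation classified by a family. -/
def classify {V : Type v} [CommRing V] (N : ℕ) (g : R →+* V) (a : ℕ → V) (h0 : a 0 = 1)
    (hmul : ∀ i j, a i * a j = (((i + j).choose i : ℕ) : V) * a (i + j)) (hbig : ∀ n, N < n → a n = 0) :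
    Trunc R N →+* V :=
  Ideal.Quotient.lift (tailIdeal R N)
    { toFun := fun h => ∑ n ∈ range (N + 1), g (h.c n) * a n
      map_one' := by
        rw [Finset.sum_eq_single 0]
        · simp [Hur.one_c, h0]
        · intro m _ hm; simp [Hur.one_c, hm]
        · simp
      map_zero' := by simp
      map_add' := fun x y => by simp [add_mul, Finset.sum_add_distrib]
      map_mul' := fun x y => by
        rw [Finset.sum_mul_sum, ← Finset.sum_product']
        have hl : ∀ n, g ((x * y).c n) * a n =
            ∑ p ∈ antidiagonal n, g (x.c p.1) * a p.1 * (g (y.c p.2) * a p.2) := by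
          intro n
          rw [Hur.mul_c, map_sum, Finset.sum_mul]
          refine Finset.sum_congr rfl fun p hp => ?_
          rw [mul_mul_mul_comm, hmul, mem_antidiagonal.1 hp, map_mul, map_mul, map_natCast]
          ring
        rw [Finset.sum_congr rfl fun n _ => hl n, Finset.sum_sigma']
        refine Finset.sum_bij_ne_zero (fun q _ _ => q.2) ?_ ?_ ?_ (fun q _ _ => rfl)
        · rintro ⟨n, p, q⟩ h _
          simp at h ⊢
          omega
        · rintro ⟨n, p, q⟩ h _ ⟨n', p', q'⟩ h' _ e
          simp at h h' e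
          obtain ⟨rfl, rfl⟩ := e
          simp [← h.2, ← h'.2]
        · rintro ⟨p, q⟩ h hne
          simp at h
          by_cases hpq : p + q ≤ N
          · exact ⟨⟨p + q, p, q⟩, by simp; omega, hne, rfl⟩
          · exfalso
            apply hne
            rw [mul_mul_mul_comm, hmul, hbig _ (lt_of_not_ge hpq), mul_zero, mul_zero] }
    fun x hx => by
      show ∑ n ∈ range (N + 1), g (x.c n) * a n = 0
      refine Finset.sum_eq_zero fun n hn => ?_
      rw [hx n (Nat.lt_succ_iff.1 (Finset.mem_range.1 hn)), map_zero, zero_mul]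

section classify

variable {V : Type v} [CommRing V] (N : ℕ) (g : R →+* V) (a : ℕ → V) (h0 : a 0 = 1)
  (hmul : ∀ i j, a i * a j = (((i + j).choose i : ℕ) : V) * a (i + j)) (hbig : ∀ n, N < n → a n = 0)

theorem classify_comp_const : (classify N g a h0 hmul hbig).comp (trConst N) = g := by
  ext r
  show ∑ n ∈ range (N + 1), g ((Hur.single 0 r).c n) * a n = g r
  rw [Finset.sum_eq_single 0]
  · simp [Hur.single, h0]
  · intro m _ hm; simp [Hur.single, hm]
  · simp

theorem classify_tGen (n : ℕ) : classify N g a h0 hmul hbig (tGen N n) = a n := by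
  show ∑ m ∈ range (N + 1), g ((Hur.single n 1).c m) * a m = a n
  by_cases hn : n ≤ N
  · rw [Finset.sum_eq_single n]
    · simp [Hur.single]
    · intro m _ hm; simp [Hur.single, hm]
    · intro h; exact absurd (Finset.mem_range.2 (Nat.lt_succ_of_le hn)) h
  · rw [hbig n (lt_of_not_ge hn)]
    refine Finset.sum_eq_zero fun m hm => ?_
    have : m ≠ n := fun e => hn (e ▸ Nat.lt_succ_iff.1 (Finset.mem_range.1 hm))
    simp [Hur.single, this]

theorem classify_eq (x : Trunc R N) (r : ℕ → R) (hr : ∀ n (h : n ≤ N), coef n h x = r n) :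
    classify N g a h0 hmul hbig x = ∑ n ∈ range (N + 1), g (r n) * a n := by
  conv_lhs => rw [eq_expand x r hr]
  rw [map_sum]
  refine Finset.sum_congr rfl fun n _ => ?_
  rw [map_mul, classify_tGen]
  exact congrArg (· * a n) (RingHom.congr_fun (classify_comp_const N g a h0 hmul hbig) (r n))

end classify

end Groth.Agent.DualGa
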