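import Groth.Agent.DualGa.Chars
import Groth.Agent.DualGa.Hurwitz
import Mathlib.CategoryTheory.Sites.LocallySurjective

/-!
# The additive group is its own double dual

On the fppf site of any scheme the evaluation map `𝔾_a ⟶ 𝔾_a^^` is an isomorphism: a homomorphism from the
dual to `𝔾_m` over an affine base is determined by its values at the universal characters of bounded degree,
whose coordinates over the truncated divided power algebras are the powers of a single function.
-/

set_option autoImplicit false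
universe u

open CategoryTheory CategoryTheory.Limits MonoidalCategory CartesianMonoidalCategory MonObj AlgebraicGeometry
open Opposite Finset

namespace Groth.Agent.DualGa

variable {X : Scheme.{u}} {T V W : Over X}

/-- The coefficient as an additive map. -/
def coefHom {R : Type u} [CommRing R] {N : ℕ} (n : ℕ) (h : n ≤ N) : Trunc R N →+ R :=
  AddMonoidHom.mk' (coef n h) fun a b => by
    obtain ⟨a, rfl⟩ := Ideal.Quotient.mk_surjective a
    obtain ⟨b, rfl⟩ := Ideal.Quotient.mk_surjective b
    rfl

/-- Comparison of coefficients in a ring with two independent families. -/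
theorem double_coef {R A D : Type u} [CommRing R] [CommRing A] [CommRing D] (c : R →+* A) (c' : A →+* D)
    (t : ℕ → A) (t' : ℕ → D) (L : D →+ R) {N i j : ℕ} (hi : i ≤ N) (hj : j ≤ N)
    (hL : ∀ x a b, L (c' (c x) * (c' (t a) * t' b)) = if i = a ∧ j = b then x else 0) (r2 r : ℕ → R)
    (f : ℕ → D) (hf : ∀ n, f n = ∑ p ∈ antidiagonal n, c' (t p.1) * t' p.2)
    (e : ∑ n ∈ range (N + N + 1), c' (c (r2 n)) * f n =
      (∑ a ∈ range (N + 1), c' (c (r a)) * c' (t a)) * ∑ b ∈ range (N + 1), c' (c (r b)) * t' b) :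
    r2 (i + j) = r i * r j := by
  have e2 := congrArg L e
  have hr : ∀ a b : ℕ, c' (c (r a)) * c' (t a) * (c' (c (r b)) * t' b) =
      c' (c (r a * r b)) * (c' (t a) * t' b) := fun a b => by rw [map_mul, map_mul]; ring
  simp only [hf, Finset.mul_sum, Finset.sum_mul, hr, map_sum, hL] at e2
  rw [Finset.sum_eq_single (i + j), Finset.sum_eq_single (i, j), if_pos ⟨rfl, rfl⟩,
    Finset.sum_eq_single j, Finset.sum_eq_single i, if_pos ⟨rfl, rfl⟩] at e2
  · exact e2
  · intro a _ ha
    exact if_neg fun h => ha h.1.symm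
  · intro h
    exact absurd (Finset.mem_range.2 (Nat.lt_succ_of_le hi)) h
  · intro b _ hb
    exact Finset.sum_eq_zero fun a _ => if_neg fun h => hb h.2.symm
  · intro h
    exact absurd (Finset.mem_range.2 (Nat.lt_succ_of_le hj)) h
  · intro p _ hp
    exact if_neg fun h => hp (Prod.ext h.1.symm h.2.symm)
  · intro h
    exact (h (mem_antidiagonal.2 rfl)).elim
  · intro n _ hn
    exact Finset.sum_eq_zero fun p hp => if_neg fun h => hn (by rw [← mem_antidiagonal.1 hp, h.1, h.2])
  · intro h
    exact absurd (Finset.mem_range.2 (by omega)) h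

/-- The dual of the additive group. -/
noncomputable abbrev DD (X : Scheme.{u}) : BigSite.Ab Scheme.fppfPrecoverage X :=
  HomSh.homSh (JX X) (GA X) (GM X)

/-- The value of a homomorphism from the dual at a homomorphism. -/
noncomputable def val (χ : (DD X).over T ⟶ (GM X).over T) (g : V ⟶ T)
    (ψ : (GA X).over V ⟶ (GM X).over V) : Γ(V.left, ⊤) :=
  gm (T := V) (χ.hom.app (op (Over.mk g)) ψ)

theorem val_add (χ : (DD X).over T ⟶ (GM X).over T) (g : V ⟶ T) (ψ ψ' : (GA X).over V ⟶ (GM X).over V) :
    val χ g (ψ + ψ') = val χ g ψ * val χ g ψ' :=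
  (congrArg (gm (T := V)) (map_add (χ.hom.app (op (Over.mk g))).hom ψ ψ')).trans (gm_add (T := V) _ _)

theorem val_zero (χ : (DD X).over T ⟶ (GM X).over T) (g : V ⟶ T) : val χ g 0 = 1 :=
  (congrArg (gm (T := V)) (map_zero (χ.hom.app (op (Over.mk g))).hom)).trans (gm_zero (T := V))

theorem val_comp (χ : (DD X).over T ⟶ (GM X).over T) (h : W ⟶ V) (g : V ⟶ T)
    (ψ : (GA X).over V ⟶ (GM X).over V) : val χ (h ≫ g) (pull h ψ) = h.left.appTop (val χ g ψ) := by
  have hn := congr(($(χ.hom.naturality (Over.homMk h : Over.mk (h ≫ g) ⟶ Over.mk g).op)) ψ)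
  exact (congrArg (gm (T := W)) hn).trans (gm_map h _)

theorem hom_ext_val {χ χ' : (DD X).over T ⟶ (GM X).over T}
    (h : ∀ (V : Over X) (g : V ⟶ T) (ψ : (GA X).over V ⟶ (GM X).over V), val χ g ψ = val χ' g ψ) :
    χ = χ' :=
  Sheaf.hom_ext (NatTrans.ext (funext fun U => AddCommGrpCat.ext fun x =>
    gm_injective (T := U.unop.left) (h U.unop.left U.unop.hom x)))

section Affine

variable {R : CommRingCat.{u}} {φ : Spec R ⟶ X} (χ : (DD X).over (aff φ) ⟶ (GM X).over (aff φ))

theorem charOf_congr {B : CommRingCat.{u}} {φ' : Spec B ⟶ X} {f g : Polynomial B} (e : f = g)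
    (hf : IsChar f) (hg : IsChar g) : charOf (φ := φ') f hf = charOf g hg := by
  subst e
  rfl

/-- The value at a character polynomial. -/
noncomputable def valP {B : CommRingCat.{u}} (k : R ⟶ B) (f : Polynomial B) (hf : IsChar f) : B :=
  eS B (val χ (affMap φ k) (charOf (φ := Spec.map k ≫ φ) f hf))

theorem valP_congr {B : CommRingCat.{u}} {k k' : R ⟶ B} {f f' : Polynomial B} (ek : k = k') (ef : f = f')
    (hf : IsChar f) (hf' : IsChar f') : valP χ k f hf = valP χ k' f' hf' := by
  subst ek ef
  rfl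

theorem valP_map {B B' : CommRingCat.{u}} (k : R ⟶ B) (l : B ⟶ B') (f : Polynomial B) (hf : IsChar f) :
    valP χ (k ≫ l) (f.map l.hom) (hf.map l.hom) = l (valP χ k f hf) := by
  let h : aff (Spec.map (k ≫ l) ≫ φ) ⟶ aff (Spec.map k ≫ φ) :=
    Over.homMk (Spec.map l) (by simp)
  have hh : h ≫ affMap φ k = affMap φ (k ≫ l) := by
    ext1
    simp [h]
  have hp : pull h (charOf (φ := Spec.map k ≫ φ) f hf) = charOf (f.map l.hom) (hf.map l.hom) := by
    apply poly_ext
    rw [poly_pull l h rfl, poly_charOf, poly_charOf]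
  have h1 := val_comp χ h (affMap φ k) (charOf (φ := Spec.map k ≫ φ) f hf)
  rw [hh, hp] at h1
  exact (congrArg (eS B') h1).trans (eS_appTop l _)

theorem isChar_mul {B : CommRingCat.{u}} {φ' : Spec B ⟶ X} {f g : Polynomial B} (hf : IsChar f)
    (hg : IsChar g) : IsChar (f * g) := by
  have := isChar_poly (charOf (φ := φ') f hf + charOf g hg)
  rwa [poly_add, poly_charOf, poly_charOf] at this

theorem valP_mul {B : CommRingCat.{u}} (k : R ⟶ B) (f g : Polynomial B) (hf : IsChar f) (hg : IsChar g)
    (hfg : IsChar (f * g)) : valP χ k (f * g) hfg = valP χ k f hf * valP χ k g hg := by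
  have e : charOf (φ := Spec.map k ≫ φ) (f * g) hfg = charOf f hf + charOf g hg := by
    apply poly_ext
    rw [poly_add, poly_charOf, poly_charOf, poly_charOf]
  rw [valP, e, val_add, map_mul]
  rfl

theorem isChar_one {B : CommRingCat.{u}} {φ' : Spec B ⟶ X} : IsChar (1 : Polynomial B) := by
  have := isChar_poly (0 : (GA X).over (aff φ') ⟶ (GM X).over (aff φ'))
  rwa [poly_zero] at this

theorem valP_one {B : CommRingCat.{u}} (k : R ⟶ B) (h : IsChar (1 : Polynomial B)) :
    valP χ k 1 h = 1 := by
  have e : charOf (φ := Spec.map k ≫ φ) 1 h = 0 := by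
    apply poly_ext
    rw [poly_zero, poly_charOf]
  rw [valP, e, val_zero, map_one]

/-- The universal character polynomial of degree at most `N`. -/
noncomputable def univ (R : Type u) [CommRing R] (N : ℕ) : Polynomial (Trunc R N) :=
  ∑ n ∈ range (N + 1), Polynomial.C (tGen N n) * Polynomial.X ^ n

theorem univ_coeff (R : Type u) [CommRing R] (N n : ℕ) : (univ R N).coeff n = tGen N n := by
  simp only [univ, Polynomial.finsetSum_coeff, Polynomial.coeff_C_mul_X_pow]
  rw [Finset.sum_eq_single n (fun b _ hb => if_neg hb.symm)]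
  · rw [if_pos rfl]
  · intro hn
    rw [if_pos rfl, tGen_eq_zero]
    simp only [Finset.mem_range] at hn
    omega

theorem isChar_univ (R : Type u) [CommRing R] (N : ℕ) : IsChar (univ R N) where
  zero := by rw [univ_coeff, tGen_zero]
  mul n m := by rw [univ_coeff, univ_coeff, univ_coeff, tGen_mul]

theorem natDegree_univ (R : Type u) [CommRing R] (N : ℕ) : (univ R N).natDegree ≤ N :=
  Polynomial.natDegree_le_iff_coeff_eq_zero.2 fun n hn => by rw [univ_coeff, tGen_eq_zero hn]

/-- The inclusion into the truncated divided power algebra. -/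
noncomputable abbrev kU (R : CommRingCat.{u}) (N : ℕ) : R ⟶ CommRingCat.of (Trunc R N) :=
  CommRingCat.ofHom (trConst N)

/-- The value at the universal character. -/
noncomputable def valU (N : ℕ) : Trunc R N := valP χ (kU R N) (univ R N) (isChar_univ R N)

/-- The coefficients of the value at the universal character. -/
noncomputable def rc (N n : ℕ) : R := if h : n ≤ N then coef n h (valU χ N) else 0

theorem rc_of_le {N n : ℕ} (h : n ≤ N) : coef n h (valU χ N) = rc χ N n := by rw [rc, dif_pos h]

theorem valP_eq {B : CommRingCat.{u}} (k : R ⟶ B) (f : Polynomial B) (hf : IsChar f) {N : ℕ}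
    (hN : f.natDegree ≤ N) : valP χ k f hf = ∑ n ∈ range (N + 1), k (rc χ N n) * f.coeff n := by
  have hbig : ∀ n, N < n → f.coeff n = 0 := fun n hn =>
    Polynomial.coeff_eq_zero_of_natDegree_lt (hN.trans_lt hn)
  let l : CommRingCat.of (Trunc R N) ⟶ B :=
    CommRingCat.ofHom (classify N k.hom f.coeff hf.zero hf.mul hbig)
  have hk : kU R N ≫ l = k := CommRingCat.hom_ext (classify_comp_const N k.hom f.coeff hf.zero hf.mul hbig)
  have hl : (univ R N).map l.hom = f := by
    refine Polynomial.ext fun n => ?_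
    rw [Polynomial.coeff_map, univ_coeff]
    exact classify_tGen N k.hom f.coeff hf.zero hf.mul hbig n
  have h1 := valP_map χ (kU R N) l (univ R N) (isChar_univ R N)
  refine (valP_congr χ hk.symm hl.symm hf ((isChar_univ R N).map l.hom)).trans (h1.trans ?_)
  exact classify_eq N k.hom f.coeff hf.zero hf.mul hbig _ _ fun n h => rc_of_le χ h

theorem rc_zero (N : ℕ) : rc χ N 0 = 1 := by
  have h := valP_eq χ (𝟙 R) 1 (isChar_one (φ' := φ)) (N := N) (by simp)
  rw [valP_one, Finset.sum_eq_single 0] at h
  · simpa using h.symm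
  · intro b _ hb
    simp [Polynomial.coeff_one, hb]
  · simp

theorem rc_eq_of_le {M N n : ℕ} (hM : n ≤ M) (hMN : M ≤ N) : rc χ N n = rc χ M n := by
  have h := valP_eq χ (kU R M) (univ R M) (isChar_univ R M) (N := N) ((natDegree_univ R M).trans hMN)
  rw [← rc_of_le χ hM]
  refine ((congrArg (coef n hM) h).trans ?_).symm
  rw [coef_sum, Finset.sum_eq_single n]
  · rw [univ_coeff]
    refine (coef_const_mul n hM _ _).trans ?_
    rw [coef_tGen, if_pos rfl, _root_.mul_one]
  · intro b _ hb
    rw [univ_coeff]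
    refine (coef_const_mul n hM _ _).trans ?_
    rw [coef_tGen, if_neg hb.symm, mul_zero]
  · intro hn
    simp only [Finset.mem_range] at hn
    omega

theorem rc_mul {N i j : ℕ} (hi : i ≤ N) (hj : j ≤ N) :
    rc χ (N + N) (i + j) = rc χ N i * rc χ N j := by
  let R' : CommRingCat.{u} := CommRingCat.of (Trunc R N)
  let D : CommRingCat.{u} := CommRingCat.of (Trunc R' N)
  let c' : R' →+* D := trConst N
  let k : R ⟶ D := CommRingCat.ofHom (c'.comp (trConst N))
  let f1 : Polynomial D := (univ R N).map c'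
  let f2 : Polynomial D := univ R' N
  have h1 : IsChar f1 := (isChar_univ R N).map c'
  have h2 : IsChar f2 := isChar_univ R' N
  have h12 : IsChar (f1 * f2) := isChar_mul (B := D) (φ' := Spec.map k ≫ φ) h1 h2
  have d1 : f1.natDegree ≤ N := Polynomial.natDegree_map_le.trans (natDegree_univ R N)
  have d2 : f2.natDegree ≤ N := natDegree_univ R' N
  have e := valP_mul χ k f1 f2 h1 h2 h12
  rw [valP_eq χ k (f1 * f2) h12 (N := N + N) (Polynomial.natDegree_mul_le.trans (add_le_add d1 d2)),
    valP_eq χ k f1 h1 d1, valP_eq χ k f2 h2 d2] at e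
  let L : D →+ R := (coefHom i hi).comp (coefHom (R := R') j hj)
  refine double_coef (trConst N) c' (tGen N) f2.coeff L hi hj (fun x a b => ?_) _ _ (f1 * f2).coeff
    (fun n => ?_) (e.trans ?_)
  · show coef i hi (coef j hj
      (trConst N (trConst N x) * (trConst N (tGen N a : Trunc R N) * f2.coeff b))) = _
    rw [univ_coeff, coef_const_mul, coef_const_mul, coef_const_mul, coef_tGen]
    by_cases hb : j = b
    · rw [if_pos hb, _root_.mul_one, coef_tGen]
      by_cases ha : i = a
      · rw [if_pos ha, if_pos ⟨ha, hb⟩, _root_.mul_one]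
      · rw [if_neg ha, if_neg fun h => ha h.1, mul_zero]
    · rw [if_neg hb, if_neg fun h => hb h.2, mul_zero]
      show x * 0 = 0
      rw [mul_zero]
  · rw [Polynomial.coeff_mul]
    refine Finset.sum_congr rfl fun p _ => ?_
    rw [Polynomial.coeff_map, univ_coeff]
  · refine congrArg₂ (· * ·) (Finset.sum_congr rfl fun n _ => ?_) (Finset.sum_congr rfl fun n _ => rfl)
    rw [Polynomial.coeff_map, univ_coeff]
    rfl

theorem rc_pow {N n : ℕ} (h : n ≤ N) : rc χ N n = rc χ 1 1 ^ n := by
  induction n with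
  | zero => rw [rc_zero, pow_zero]
  | succ n ih =>
    rw [← rc_eq_of_le χ h (Nat.le_add_right N N), rc_mul χ ((Nat.le_succ n).trans h) (by omega),
      ih ((Nat.le_succ n).trans h), rc_eq_of_le χ (M := 1) (N := N) (n := 1) le_rfl (by omega), pow_succ]

/-- Every homomorphism from the dual is evaluation at a function. -/
theorem valP_eq_eval {B : CommRingCat.{u}} (k : R ⟶ B) (f : Polynomial B) (hf : IsChar f) :
    valP χ k f hf = f.eval (k (rc χ 1 1)) := by
  rw [valP_eq χ k f hf le_rfl, Polynomial.eval_eq_sum_range]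
  refine Finset.sum_congr rfl fun n hn => ?_
  rw [rc_pow χ (Nat.lt_succ_iff.1 (Finset.mem_range.1 hn)), map_pow, mul_comm]

theorem ext_valP {χ' : (DD X).over (aff φ) ⟶ (GM X).over (aff φ)}
    (h : ∀ (B : CommRingCat.{u}) (k : R ⟶ B) (f : Polynomial B) (hf : IsChar f),
      valP χ k f hf = valP χ' k f hf) : χ = χ' := by
  refine hom_ext_val fun V g ψ => sep fun B j => ?_
  obtain ⟨k, hk⟩ := Spec.map_surjective (j ≫ g.left)
  let p : aff (Spec.map k ≫ φ) ⟶ V := Over.homMk j (by
    simp only [Over.mk_hom]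
    rw [hk, Category.assoc]
    exact congrArg (j ≫ ·) (Over.w g).symm)
  have hp : p ≫ g = affMap φ k := by
    ext1
    simp [p, hk]
  have h1 : ∀ c : (DD X).over (aff φ) ⟶ (GM X).over (aff φ),
      j.appTop (val c g ψ) = eI B (valP c k (poly (pull p ψ)) (isChar_poly _)) := fun c => by
    have hc : charOf (poly (pull p ψ)) (isChar_poly _) = pull p ψ := poly_ext (poly_charOf _ _)
    rw [valP, hc, eI_eS, ← hp]
    exact (val_comp c p g ψ).symm
  rw [h1, h1, h]

theorem act_id_eval {B : CommRingCat.{u}} {φ' : Spec B ⟶ X} (ψ : (GA X).over (aff φ') ⟶ (GM X).over (aff φ'))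
    (b : B) : eS B (act ψ (𝟙 _) (eI B b)) = (poly ψ).eval b := by
  let h : aff φ' ⟶ aff (Spec.map (𝟙 B) ≫ φ') := Over.homMk (𝟙 _) (by simp)
  have hh : h ≫ affMap φ' (𝟙 B) = 𝟙 _ := by
    ext1
    simp [h]
  have h1 := act_comp ψ h (affMap φ' (𝟙 B)) (eI B b)
  rw [hh] at h1
  have h2 : ∀ s : Γ(Spec B, ⊤), h.left.appTop s = s := fun s => by simp [h]
  rw [h2, h2] at h1
  rw [h1]
  exact act_eq_eval ψ (𝟙 B) b

/-- The value of an evaluation. -/
theorem valP_evalSect (x : (GA X).obj.obj (op (aff φ))) {B : CommRingCat.{u}} (k : R ⟶ B)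
    (f : Polynomial B) (hf : IsChar f) :
    valP (HomSh.evalSect (JX X) (F := GA X) (M := GM X) x) k f hf =
      f.eval (k (eS R (ga (T := aff φ) x))) := by
  have hx : (GA X).obj.map (affMap φ k).op x =
      gaOf (T := aff (Spec.map k ≫ φ)) (eI B (k (eS R (ga (T := aff φ) x)))) := by
    refine ga_injective (T := aff (Spec.map k ≫ φ)) ?_
    rw [ga_gaOf]
    refine (ga_map (affMap φ k) x).trans ?_
    rw [← eS_appTop k, eI_eS]
    rfl
  have h1 : val (HomSh.evalSect (JX X) (F := GA X) (M := GM X) x) (affMap φ k)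
      (charOf (φ := Spec.map k ≫ φ) f hf) =
      act (charOf (φ := Spec.map k ≫ φ) f hf) (𝟙 _) (eI B (k (eS R (ga (T := aff φ) x)))) :=
    congrArg (fun z => gm (T := aff (Spec.map k ≫ φ))
      ((charOf (φ := Spec.map k ≫ φ) f hf).hom.app (op (Over.mk (𝟙 _))) z)) hx
  rw [valP, h1, act_id_eval, poly_charOf]

theorem evalSect_injective (x y : (GA X).obj.obj (op (aff φ)))
    (h : HomSh.evalSect (JX X) (F := GA X) (M := GM X) x = HomSh.evalSect (JX X) (F := GA X) (M := GM X) y) :
    x = y := by
  have hc : ∀ z : (GA X).obj.obj (op (aff φ)),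
      coef 1 le_rfl (valP (HomSh.evalSect (JX X) (F := GA X) (M := GM X) z) (kU R 1) (univ R 1)
        (isChar_univ R 1)) = eS R (ga (T := aff φ) z) := fun z => by
    rw [valP_evalSect, Polynomial.eval_eq_sum_range' (Nat.lt_succ_of_le (natDegree_univ R 1))]
    simp only [univ_coeff, mul_comm (tGen 1 _)]
    have := coef_expand (N := 1) 1 le_rfl fun m => (eS R (ga (T := aff φ) z)) ^ m
    simp only [map_pow, pow_one] at this
    exact this
  refine ga_injective (T := aff φ) ?_
  refine (eI_eS R _).symm.trans ((congrArg (eI R) ?_).trans (eI_eS R _))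
  rw [← hc x, ← hc y, h]

theorem evalSect_surjective : ∃ x : (GA X).obj.obj (op (aff φ)),
    HomSh.evalSect (JX X) (F := GA X) (M := GM X) x = χ := by
  refine ⟨gaOf (T := aff φ) (eI R (rc χ 1 1)), ext_valP _ fun B k f hf => ?_⟩
  rw [valP_evalSect, valP_eq_eval χ k f hf, ga_gaOf, eS_eI]

end Affine

/-- The sieve of morphisms through affine open subschemes covers. -/
theorem affineSieve_mem (T : Over X) (S : Sieve T)
    (h : ∀ i, S (Over.homMk (U := Over.mk (T.left.affineCover.f i ≫ T.hom)) (T.left.affineCover.f i))) :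
    S ∈ JX X T := by
  rw [GrothendieckTopology.mem_over_iff]
  refine GrothendieckTopology.superset_covering _ ?_ (Precoverage.generate_mem_toGrothendieck
    (Scheme.zariskiPrecoverage_le_fppfPrecoverage _ T.left.affineCover.mem₀))
  rw [Sieve.generate_le_iff]
  rintro Y g ⟨i⟩
  exact (Sieve.overEquiv_iff S _).2 (h i)

/-- Naturality on elements. -/
theorem natural_apply {F G : BigSite.Ab Scheme.fppfPrecoverage X} (α : F ⟶ G) {U V : Over X} (p : V ⟶ U)
    (x : F.obj.obj (op U)) :
    α.hom.app (op V) (F.obj.map p.op x) = G.obj.map p.op (α.hom.app (op U) x) :=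
  congr(($(α.hom.naturality p.op)) x)

/-- A map of sheaves on the big site injective everywhere and surjective over affines is an isomorphism. -/
theorem isIso_of_affine {F G : BigSite.Ab Scheme.fppfPrecoverage X} (α : F ⟶ G)
    (hi : ∀ U : Over X, Function.Injective (α.hom.app (op U)))
    (hs : ∀ (B : CommRingCat.{u}) (φ : Spec B ⟶ X), Function.Surjective (α.hom.app (op (aff φ)))) :
    IsIso α := by
  refine (Sheaf.isLocallyBijective_iff_isIso α).1
    ⟨Presheaf.isLocallyInjective_of_injective _ _ fun U => hi U.unop, ⟨fun {U} s => ?_⟩⟩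
  refine affineSieve_mem U _ fun i => ?_
  exact hs _ (U.left.affineCover.f i ≫ U.hom) _

theorem bidual_injective (U : Over X) :
    Function.Injective ((HomSh.bidualMap (JX X) (GA X) (GM X)).hom.app (op U)) := fun x y hxy => by
  refine ga_injective (T := U) (sep fun B j => ?_)
  let p : aff (j ≫ U.hom) ⟶ U := Over.homMk j
  have e : (GA X).obj.map p.op x = (GA X).obj.map p.op y := by
    refine evalSect_injective _ _ ?_
    have h1 := natural_apply (HomSh.bidualMap (JX X) (GA X) (GM X)) p x
    have h2 := natural_apply (HomSh.bidualMap (JX X) (GA X) (GM X)) p y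
    rw [hxy] at h1
    exact h1.trans h2.symm
  exact (ga_map p x).symm.trans ((congrArg (ga (T := aff (j ≫ U.hom))) e).trans (ga_map p y))

theorem bidual_surjective {R : CommRingCat.{u}} (φ : Spec R ⟶ X) :
    Function.Surjective ((HomSh.bidualMap (JX X) (GA X) (GM X)).hom.app (op (aff φ))) := fun χ =>
  evalSect_surjective (φ := φ) χ

theorem isIso_bidual (X : Scheme.{u}) : IsIso (HomSh.bidualMap (JX X) (GA X) (GM X)) := by
  refine isIso_of_affine _ ?_ ?_
  · exact bidual_injective
  · exact fun _ φ => bidual_surjective φ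

/-- The additive group is its own double dual. -/
theorem isIso_toDoubleDual (X : Scheme.{u}) :
    IsIso (CGrpSh2.toDoubleDual Scheme.fppfPrecoverage (CGrpSh2.Ga Scheme.fppfPrecoverage X)) :=
  isIso_bidual X

end Groth.Agent.DualGa
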